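import Groth.Prelude.Def_AlgSt5
import Groth.Prelude.Def_StCoarse
import Groth.Agent.L09.Stack.QuotTriv

/-!
# Functors out of a quotient stack into a sheaf

An invariant morphism of sheaves `h_X ⟶ M` descends uniquely to a functor `[X/G] ⟶ M`, and every
functor `[X/G] ⟶ M` comes from an invariant morphism.
-/

set_option autoImplicit false
set_option backward.isDefEq.respectTransparency false
set_option backward.isDefEq.respectTransparency.types false

universe u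

open CategoryTheory CategoryTheory.Limits AlgebraicGeometry Opposite MonoidalCategory CartesianMonoidalCategory
open MonObj GrpObj Groth.L09.Stack

noncomputable section

namespace Groth.L24.QuotMor

variable {S : Scheme.{u}} {G : Over S} [GrpObj G] {X : Over S} {aX : AlgGrp.Action G X}
  {M : AlgSp.Sp S}

/-- The section of `M` attached by `f : h_X ⟶ M` to a point of `X`. -/
abbrev pt (f : (AlgSp.yon S).obj X ⟶ M) {W : Over S} (x : W ⟶ X) : M.obj.obj (op W) :=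
  f.hom.app (op W) ⟨x⟩

theorem pt_comp (f : (AlgSp.yon S).obj X ⟶ M) {W W' : Over S} (q : W' ⟶ W) (x : W ⟶ X) :
    M.obj.map q.op (pt f x) = pt f (q ≫ x) :=
  (NatTrans.naturality_apply f.hom q.op ⟨x⟩).symm

theorem pt_inv {f : (AlgSp.yon S).obj X ⟶ M}
    (hf : (AlgSp.yon S).map aX.act ≫ f = (AlgSp.yon S).map (snd G X) ≫ f)
    {W : Over S} (g : W ⟶ G) (x : W ⟶ X) : pt f (lift g x ≫ aX.act) = pt f x := by
  have h := congrArg (fun k : (AlgSp.yon S).obj (G ⊗ X) ⟶ M => k.hom.app (op W) ⟨lift g x⟩) hf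
  change pt f (lift g x ≫ aX.act) = pt f (lift g x ≫ snd G X) at h
  rwa [lift_snd] at h

theorem cover_mem (A : AlgSt.QuotObj Scheme.fppfPrecoverage G aX) :
    Sieve.generate (Presieve.singleton A.π) ∈ AlgSp.J S A.base := by
  obtain ⟨R, hR, hsec⟩ := A.loc
  rw [GrothendieckTopology.mem_over_iff]
  refine (Scheme.fppfPrecoverage.toGrothendieck).superset_covering ?_
    (Precoverage.generate_mem_toGrothendieck hR)
  rintro Y g ⟨Z, k, f, hf, rfl⟩
  obtain ⟨s, hs⟩ := hsec f hf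
  have hs' : s ≫ A.π.left = f := hs
  rw [Sieve.overEquiv_iff]
  refine ⟨A.P, Over.homMk (k ≫ s) ?_, A.π, Presieve.singleton_self _, Over.OverMorphism.ext ?_⟩
  · show (k ≫ s) ≫ A.P.hom = (k ≫ f) ≫ A.base.hom
    rw [← Over.w A.π, ← hs']
    simp only [Category.assoc]
  · show (k ≫ s) ≫ A.π.left = k ≫ f
    rw [Category.assoc, hs']

theorem existsUnique_sec (A : AlgSt.QuotObj Scheme.fppfPrecoverage G aX) {f : (AlgSp.yon S).obj X ⟶ M}
    (hf : (AlgSp.yon S).map aX.act ≫ f = (AlgSp.yon S).map (snd G X) ≫ f) :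
    ∃! m : M.obj.obj (op A.base), M.obj.map A.π.op m = pt f A.φ := by
  have hsh : Presieve.IsSheafFor M.obj (Presieve.singleton A.π) :=
    (Presieve.isSheafFor_iff_generate _).2
      ((isSheaf_iff_isSheaf_of_type _ _).1 M.property _ (cover_mem A))
  refine Presieve.isSheafFor_singleton.1 hsh (pt f A.φ) fun {W} p₁ p₂ hp => ?_
  have h1 : A.cart.lift p₁ p₂ hp = lift (A.cart.lift p₁ p₂ hp ≫ fst G A.P) p₂ := by
    apply CartesianMonoidalCategory.hom_ext <;> simp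
  rw [pt_comp, pt_comp]
  conv_lhs => rw [← A.cart.lift_fst p₁ p₂ hp, Category.assoc, A.eqv, h1]
  have h2 : lift (A.cart.lift p₁ p₂ hp ≫ fst G A.P) p₂ ≫ (G ◁ A.φ) ≫ aX.act =
      lift (A.cart.lift p₁ p₂ hp ≫ fst G A.P) (p₂ ≫ A.φ) ≫ aX.act := by
    rw [← Category.assoc]
    congr 1
    apply CartesianMonoidalCategory.hom_ext <;> simp
  rw [h2]
  exact pt_inv hf _ _

/-- The descended section. -/
def descSec (A : AlgSt.QuotObj Scheme.fppfPrecoverage G aX) {f : (AlgSp.yon S).obj X ⟶ M}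
    (hf : (AlgSp.yon S).map aX.act ≫ f = (AlgSp.yon S).map (snd G X) ≫ f) : M.obj.obj (op A.base) :=
  (existsUnique_sec A hf).exists.choose

theorem map_descSec (A : AlgSt.QuotObj Scheme.fppfPrecoverage G aX) {f : (AlgSp.yon S).obj X ⟶ M}
    (hf : (AlgSp.yon S).map aX.act ≫ f = (AlgSp.yon S).map (snd G X) ≫ f) :
    M.obj.map A.π.op (descSec A hf) = pt f A.φ :=
  (existsUnique_sec A hf).exists.choose_spec

theorem eq_descSec (A : AlgSt.QuotObj Scheme.fppfPrecoverage G aX) {f : (AlgSp.yon S).obj X ⟶ M}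
    (hf : (AlgSp.yon S).map aX.act ≫ f = (AlgSp.yon S).map (snd G X) ≫ f) {m : M.obj.obj (op A.base)}
    (hm : M.obj.map A.π.op m = pt f A.φ) : m = descSec A hf :=
  (existsUnique_sec A hf).unique hm (map_descSec A hf)

/-- The functor `[X/G] ⟶ M` attached to an invariant morphism. -/
def desc {f : (AlgSp.yon S).obj X ⟶ M}
    (hf : (AlgSp.yon S).map aX.act ≫ f = (AlgSp.yon S).map (snd G X) ≫ f) :
    AlgSt.QuotSt Scheme.fppfPrecoverage G aX ⥤ᵇ AlgSt.ofSp M where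
  toFunctor :=
    { obj := fun A => ⟨A.base, descSec A hf⟩
      map := fun {A B} h => ⟨h.base, by
        apply eq_descSec A hf
        rw [← Functor.map_comp_apply, ← op_comp, ← h.cart.w, op_comp, Functor.map_comp_apply,
          map_descSec B hf, pt_comp, h.wφ]⟩
      map_id := fun _ => Stk.EltObj.hom_ext rfl
      map_comp := fun _ _ => Stk.EltObj.hom_ext rfl }
  w := rfl

/-- Two functors over the base into a sheaf are equal when they give the same sections. -/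
theorem basedFunctor_ext {𝒳 : BasedCategory.{u, u + 1} (Over S)} {φ ψ : 𝒳 ⥤ᵇ AlgSt.ofSp M}
    (h : ∀ A : 𝒳.obj, AlgSt.fibSec φ ⟨A, rfl⟩ = AlgSt.fibSec ψ ⟨A, rfl⟩) : φ = ψ := by
  have hobj : ∀ A, φ.obj A = ψ.obj A := fun A => by
    have key : ∀ (a b : (AlgSt.ofSp M).obj) (T : Over S) (ha : a.base = T) (hb : b.base = T),
        M.obj.map (eqToHom ha.symm).op a.sec = M.obj.map (eqToHom hb.symm).op b.sec → a = b := by
      rintro ⟨Ta, sa⟩ ⟨Tb, sb⟩ T ha hb e
      subst ha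
      cases hb
      simpa using e
    exact key _ _ _ (φ.w_obj A) (ψ.w_obj A) (h A)
  obtain ⟨F, hF⟩ := φ
  obtain ⟨F', hF'⟩ := ψ
  congr 1
  refine CategoryTheory.Functor.ext hobj fun A B g => ?_
  have h1 := Functor.congr_hom hF g
  have h2 := Functor.congr_hom hF' g
  apply Stk.EltObj.hom_ext
  have e1 : ∀ {a b : (AlgSt.ofSp M).obj} (e : a = b),
      (eqToHom e : a ⟶ b).hom = eqToHom (congrArg Stk.EltObj.base e) := by
    rintro a b rfl; rfl
  simp only [Stk.EltObj.comp_hom, e1]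
  simp only [Functor.comp_map, Stk.EltObj.forget_map] at h1 h2
  rw [h1, h2]
  simp

/-- The morphism of `[X/G]` from the trivial torsor over the total space of an object. -/
def fromTriv (A : AlgSt.QuotObj Scheme.fppfPrecoverage G aX) :
    (AlgSt.quotMap Scheme.fppfPrecoverage G aX).obj ⟨A.P, ⟨A.φ⟩⟩ ⟶ A where
  base := A.π
  top := A.act.act
  eqv := by
    have h := leftMul_equivariant A.act (𝟙 A.P)
    show (AlgSt.leftMul G A.P).act ≫ A.act.act = _
    simpa using h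
  cart := A.cart
  wφ := A.eqv

/-- The section over a `W`-point of `X` of a functor out of `[X/G]`. -/
abbrev secAt (φ : AlgSt.QuotSt Scheme.fppfPrecoverage G aX ⥤ᵇ AlgSt.ofSp M) {W : Over S} (x : W ⟶ X) :
    M.obj.obj (op W) :=
  AlgSt.fibSec φ (T := W) ⟨(AlgSt.quotMap Scheme.fppfPrecoverage G aX).obj ⟨W, ⟨x⟩⟩, rfl⟩

theorem transport_sec {a b : (AlgSt.ofSp M).obj} (g : a ⟶ b) {T T' : Over S} (ha : a.base = T)
    (hb : b.base = T') (q : T ⟶ T') (hg : g.hom = eqToHom ha ≫ q ≫ eqToHom hb.symm) :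
    M.obj.map q.op (M.obj.map (eqToHom hb.symm).op b.sec) = M.obj.map (eqToHom ha.symm).op a.sec := by
  subst ha hb
  simp only [eqToHom_refl, Category.id_comp, Category.comp_id] at hg
  simpa [← hg] using g.map_sec

theorem fibSec_map {𝒳 : BasedCategory.{u, u + 1} (Over S)} (φ : 𝒳 ⥤ᵇ AlgSt.ofSp M) {A B : 𝒳.obj}
    (g : A ⟶ B) :
    M.obj.map (𝒳.p.map g).op (AlgSt.fibSec φ ⟨B, rfl⟩) = AlgSt.fibSec φ ⟨A, rfl⟩ := by
  exact transport_sec (φ.map g) (φ.w_obj A) (φ.w_obj B) (𝒳.p.map g) (Functor.congr_hom φ.w g)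

theorem secAt_comp (φ : AlgSt.QuotSt Scheme.fppfPrecoverage G aX ⥤ᵇ AlgSt.ofSp M) {W W' : Over S}
    (q : W' ⟶ W) (x : W ⟶ X) : M.obj.map q.op (secAt φ x) = secAt φ (q ≫ x) := by
  let g : (⟨W', ⟨q ≫ x⟩⟩ : (AlgSt.ofSch X).obj) ⟶ ⟨W, ⟨x⟩⟩ := ⟨q, rfl⟩
  exact fibSec_map φ ((AlgSt.quotMap Scheme.fppfPrecoverage G aX).map g)

theorem fibSec_desc_eq (φ : AlgSt.QuotSt Scheme.fppfPrecoverage G aX ⥤ᵇ AlgSt.ofSp M)
    (A : AlgSt.QuotObj Scheme.fppfPrecoverage G aX) :
    M.obj.map A.π.op (AlgSt.fibSec φ (T := A.base) ⟨A, rfl⟩) = secAt φ A.φ :=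
  fibSec_map φ (fromTriv A)

/-- The morphism of sheaves underlying a functor out of `[X/G]`. -/
def homOf (φ : AlgSt.QuotSt Scheme.fppfPrecoverage G aX ⥤ᵇ AlgSt.ofSp M) : (AlgSp.yon S).obj X ⟶ M :=
  ObjectProperty.homMk
    { app := fun W => ↾fun x => secAt φ x.down
      naturality := fun W W' q => by
        ext x
        exact (secAt_comp φ q.unop x.down).symm }

theorem pt_homOf (φ : AlgSt.QuotSt Scheme.fppfPrecoverage G aX ⥤ᵇ AlgSt.ofSp M) {W : Over S}
    (x : W ⟶ X) : pt (homOf φ) x = secAt φ x := rfl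

theorem secAt_inv (φ : AlgSt.QuotSt Scheme.fppfPrecoverage G aX ⥤ᵇ AlgSt.ofSp M) {W : Over S}
    (g : W ⟶ G) (x : W ⟶ X) : secAt φ (lift g x ≫ aX.act) = secAt φ x := by
  let top : G ⊗ W ⟶ G ⊗ W := lift (fst G W * (snd G W ≫ g)) (snd G W)
  have hiso : IsIso top := ⟨lift (fst G W * (snd G W ≫ g)⁻¹) (snd G W),
    by simp [top, comp_lift, comp_mul, comp_inv], by simp [top, comp_lift, comp_mul, comp_inv]⟩
  let h : (AlgSt.quotMap Scheme.fppfPrecoverage G aX).obj ⟨W, ⟨lift g x ≫ aX.act⟩⟩ ⟶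
      (AlgSt.quotMap Scheme.fppfPrecoverage G aX).obj ⟨W, ⟨x⟩⟩ :=
    { base := 𝟙 W
      top := top
      eqv := by
        show (AlgSt.leftMul G W).act ≫ top = (G ◁ top) ≫ (AlgSt.leftMul G W).act
        apply CartesianMonoidalCategory.hom_ext
        · simp [top, AlgSt.leftMul, comp_lift, comp_mul, _root_.mul_assoc]
        · simp [top, AlgSt.leftMul, comp_lift, comp_mul]
      cart := by
        show IsPullback top (snd G W) (snd G W) (𝟙 W)
        exact IsPullback.of_horiz_isIso ⟨by simp [top]⟩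
      wφ := by
        show top ≫ (G ◁ x) ≫ aX.act = (G ◁ (lift g x ≫ aX.act)) ≫ aX.act
        have e1 : top ≫ (G ◁ x) = lift (fst G W * (snd G W ≫ g)) (snd G W ≫ x) := by
          apply CartesianMonoidalCategory.hom_ext <;> simp [top]
        have e2 : (G ◁ (lift g x ≫ aX.act)) =
            lift (fst G W) (lift (snd G W ≫ g) (snd G W ≫ x) ≫ aX.act) := by
          rw [← comp_lift, Category.assoc]
          apply CartesianMonoidalCategory.hom_ext <;> simp
        rw [reassoc_of% e1, lift_mul_act, e2] }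
  have h2 := fibSec_map φ h
  change M.obj.map (𝟙 W).op _ = _ at h2
  rw [op_id, Functor.map_id_apply] at h2
  exact h2.symm

theorem homOf_invariant (φ : AlgSt.QuotSt Scheme.fppfPrecoverage G aX ⥤ᵇ AlgSt.ofSp M) :
    (AlgSp.yon S).map aX.act ≫ homOf φ = (AlgSp.yon S).map (snd G X) ≫ homOf φ := by
  apply ObjectProperty.hom_ext
  ext W ⟨x⟩
  show secAt φ (x ≫ aX.act) = secAt φ (x ≫ snd G X)
  have hx : x = lift (x ≫ fst G X) (x ≫ snd G X) := by simp
  conv_lhs => rw [hx]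
  exact secAt_inv φ _ _

theorem secAt_desc {f : (AlgSp.yon S).obj X ⟶ M}
    (hf : (AlgSp.yon S).map aX.act ≫ f = (AlgSp.yon S).map (snd G X) ≫ f) {W : Over S} (x : W ⟶ X) :
    secAt (desc hf) x = pt f x := by
  have h1 : secAt (desc hf) x =
      descSec ((AlgSt.quotMap Scheme.fppfPrecoverage G aX).obj ⟨W, ⟨x⟩⟩) hf := by
    simp [secAt, AlgSt.fibSec, desc]
    erw [Functor.map_id_apply]
  rw [h1]
  refine (eq_descSec _ hf ?_).symm
  show M.obj.map (snd G W).op (pt f x) = pt f ((G ◁ x) ≫ aX.act)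
  rw [pt_comp, show (G ◁ x) = lift (fst G W) (snd G W ≫ x) by
    apply CartesianMonoidalCategory.hom_ext <;> simp, pt_inv hf]

theorem homOf_desc {f : (AlgSp.yon S).obj X ⟶ M}
    (hf : (AlgSp.yon S).map aX.act ≫ f = (AlgSp.yon S).map (snd G X) ≫ f) : homOf (desc hf) = f := by
  apply ObjectProperty.hom_ext
  ext W ⟨x⟩
  exact secAt_desc hf x

/-- A functor out of `[X/G]` into a sheaf is determined by its composite with `X ⟶ [X/G]`. -/
theorem homOf_injective {φ ψ : AlgSt.QuotSt Scheme.fppfPrecoverage G aX ⥤ᵇ AlgSt.ofSp M}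
    (h : homOf φ = homOf ψ) : φ = ψ := by
  refine basedFunctor_ext fun A => ?_
  refine (existsUnique_sec A (homOf_invariant φ)).unique ?_ ?_
  · exact fibSec_desc_eq φ A
  · rw [pt_homOf]
    exact (fibSec_desc_eq ψ A).trans (congrArg (fun k => pt k A.φ) h).symm

/-- 2-isomorphic functors over the base into a sheaf are equal. -/
theorem eq_of_iso {𝒳 : BasedCategory.{u, u + 1} (Over S)} {φ ψ : 𝒳 ⥤ᵇ AlgSt.ofSp M} (e : φ ≅ ψ) :
    φ = ψ := by
  refine basedFunctor_ext fun A => ?_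
  have hl : (AlgSt.ofSp M).p.IsHomLift (𝟙 (𝒳.p.obj A)) (e.hom.toNatTrans.app A) :=
    BasedNatTrans.isHomLift e.hom rfl
  have h1 := IsHomLift.fac' (AlgSt.ofSp M).p (𝟙 (𝒳.p.obj A)) (e.hom.toNatTrans.app A)
  have h2 := transport_sec (e.hom.toNatTrans.app A) (φ.w_obj A) (ψ.w_obj A) (𝟙 _) h1
  rw [op_id, Functor.map_id_apply] at h2
  exact h2.symm

/-- The composite with `X ⟶ [X/G]`. -/
theorem comp_quotMap_eq (φ : AlgSt.QuotSt Scheme.fppfPrecoverage G aX ⥤ᵇ AlgSt.ofSp M) :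
    BasedFunctor.comp (AlgSt.quotMap Scheme.fppfPrecoverage G aX) φ = AlgSt.ofSpMap (homOf φ) := by
  refine basedFunctor_ext fun a => ?_
  obtain ⟨W, ⟨x⟩⟩ := a
  symm
  show AlgSt.fibSec (AlgSt.ofSpMap (homOf φ)) ⟨⟨W, ⟨x⟩⟩, rfl⟩ = secAt φ x
  show M.obj.map (eqToHom _).op _ = _
  rw [eqToHom_refl, op_id]
  erw [Functor.map_id_apply]
  rfl

theorem ofSpMap_injective {F : AlgSp.Sp S} {a b : F ⟶ M}
    (h : AlgSt.ofSpMap a = AlgSt.ofSpMap b) : a = b := by
  apply ObjectProperty.hom_ext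
  ext W x
  have h1 := congrArg (fun Φ : AlgSt.ofSp F ⥤ᵇ AlgSt.ofSp M =>
    AlgSt.fibSec Φ (T := W.unop) ⟨⟨W.unop, x⟩, rfl⟩) h
  simp only [AlgSt.fibSec] at h1
  change M.obj.map (𝟙 W) (a.hom.app W x) = M.obj.map (𝟙 W) (b.hom.app W x) at h1
  erw [Functor.map_id_apply, Functor.map_id_apply] at h1
  exact h1

theorem homOf_eq_of_comp {φ : AlgSt.QuotSt Scheme.fppfPrecoverage G aX ⥤ᵇ AlgSt.ofSp M}
    {f : (AlgSp.yon S).obj X ⟶ M}
    (h : BasedFunctor.comp (AlgSt.quotMap Scheme.fppfPrecoverage G aX) φ = AlgSt.ofSpMap f) :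
    homOf φ = f :=
  ofSpMap_injective ((comp_quotMap_eq φ).symm.trans h)

theorem homOf_comp (φ : AlgSt.QuotSt Scheme.fppfPrecoverage G aX ⥤ᵇ AlgSt.ofSp M) {N : AlgSp.Sp S}
    (g : M ⟶ N) : homOf (BasedFunctor.comp φ (AlgSt.ofSpMap g)) = homOf φ ≫ g := by
  apply ObjectProperty.hom_ext
  ext W ⟨x⟩
  exact (NatTrans.naturality_apply g.hom _ _).symm

/-- Factorisations through a functor correspond to factorisations of invariant morphisms. -/
theorem nonempty_iso_iff (π : AlgSt.QuotSt Scheme.fppfPrecoverage G aX ⥤ᵇ AlgSt.ofSp M) {N : AlgSp.Sp S}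
    (g : M ⟶ N) (φ : AlgSt.QuotSt Scheme.fppfPrecoverage G aX ⥤ᵇ AlgSt.ofSp N) :
    Nonempty (BasedFunctor.comp π (AlgSt.ofSpMap g) ≅ φ) ↔ homOf π ≫ g = homOf φ := by
  constructor
  · rintro ⟨e⟩
    rw [← homOf_comp, eq_of_iso e]
  · intro h
    rw [← homOf_comp] at h
    exact ⟨eqToIso (homOf_injective h)⟩

end Groth.L24.QuotMor
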