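import Groth.Prelude.Def_AlgSt5
import Groth.Agent.L09.Stack.QuotTriv
import Groth.Agent.L09.FibBasic

/-!
# The square `G × X ⇉ X ⟶ [X/G]` is 2-cartesian
-/

set_option autoImplicit false
set_option backward.isDefEq.respectTransparency false
set_option backward.isDefEq.respectTransparency.types false

universe u

open CategoryTheory CategoryTheory.Limits AlgebraicGeometry Opposite MonoidalCategory CartesianMonoidalCategory
open MonObj GrpObj Groth.L09.Stack

noncomputable section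

namespace Groth.L24.QuotMor

variable {S : Scheme.{u}} {G : Over S} [GrpObj G] {X : Over S} (aX : AlgGrp.Action G X)

local notation "q" => AlgSt.quotMap Scheme.fppfPrecoverage G aX

/-- The isomorphism `quotMap (g · x) ≅ quotMap x` given by right translation. -/
def transIso {T : Over S} (x' x : T ⟶ X) (g : T ⟶ G) (hg : lift g x ≫ aX.act = x') :
    (AlgSt.quotMap Scheme.fppfPrecoverage G aX).obj ⟨T, ⟨x'⟩⟩ ≅
      (AlgSt.quotMap Scheme.fppfPrecoverage G aX).obj ⟨T, ⟨x⟩⟩ where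
  hom :=
    { base := 𝟙 T
      top := lift (fst G T * (snd G T ≫ g)) (snd G T)
      eqv := by
        show (AlgSt.leftMul G T).act ≫ _ = (G ◁ _) ≫ (AlgSt.leftMul G T).act
        apply CartesianMonoidalCategory.hom_ext
        · simp [AlgSt.leftMul, comp_lift, comp_mul, _root_.mul_assoc]
        · simp [AlgSt.leftMul, comp_lift, comp_mul]
      cart := by
        have hiso : IsIso (lift (fst G T * (snd G T ≫ g)) (snd G T)) :=
          ⟨lift (fst G T * (snd G T ≫ g)⁻¹) (snd G T),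
            by simp [comp_lift, comp_mul, comp_inv], by simp [comp_lift, comp_mul, comp_inv]⟩
        show IsPullback _ (snd G T) (snd G T) (𝟙 T)
        exact IsPullback.of_horiz_isIso ⟨by simp⟩
      wφ := by
        show lift (fst G T * (snd G T ≫ g)) (snd G T) ≫ (G ◁ x) ≫ aX.act = (G ◁ x') ≫ aX.act
        have e1 : lift (fst G T * (snd G T ≫ g)) (snd G T) ≫ (G ◁ x) =
            lift (fst G T * (snd G T ≫ g)) (snd G T ≫ x) := by
          apply CartesianMonoidalCategory.hom_ext <;> simp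
        have e2 : (G ◁ x') = lift (fst G T) (lift (snd G T ≫ g) (snd G T ≫ x) ≫ aX.act) := by
          rw [← comp_lift, Category.assoc, hg]
          apply CartesianMonoidalCategory.hom_ext <;> simp
        rw [reassoc_of% e1, lift_mul_act, e2] }
  inv :=
    { base := 𝟙 T
      top := lift (fst G T * (snd G T ≫ g)⁻¹) (snd G T)
      eqv := by
        show (AlgSt.leftMul G T).act ≫ _ = (G ◁ _) ≫ (AlgSt.leftMul G T).act
        apply CartesianMonoidalCategory.hom_ext
        · simp [AlgSt.leftMul, comp_lift, comp_mul, comp_inv, _root_.mul_assoc]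
        · simp [AlgSt.leftMul, comp_lift, comp_mul]
      cart := by
        have hiso : IsIso (lift (fst G T * (snd G T ≫ g)⁻¹) (snd G T)) :=
          ⟨lift (fst G T * (snd G T ≫ g)) (snd G T),
            by simp [comp_lift, comp_mul, comp_inv], by simp [comp_lift, comp_mul, comp_inv]⟩
        show IsPullback _ (snd G T) (snd G T) (𝟙 T)
        exact IsPullback.of_horiz_isIso ⟨by simp⟩
      wφ := by
        show lift (fst G T * (snd G T ≫ g)⁻¹) (snd G T) ≫ (G ◁ x') ≫ aX.act = (G ◁ x) ≫ aX.act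
        have e1 : lift (fst G T * (snd G T ≫ g)⁻¹) (snd G T) ≫ (G ◁ x') =
            lift (fst G T * (snd G T ≫ g)⁻¹) (lift (snd G T ≫ g) (snd G T ≫ x) ≫ aX.act) := by
          rw [← comp_lift, Category.assoc, hg]
          apply CartesianMonoidalCategory.hom_ext <;> simp
        have e2 : (G ◁ x) = lift (fst G T) (snd G T ≫ x) := by
          apply CartesianMonoidalCategory.hom_ext <;> simp
        rw [reassoc_of% e1, ← lift_mul_act, e2, inv_mul_cancel_right] }
  hom_inv_id := AlgSt.QuotObj.hom_ext (Category.id_comp _) (by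
    show lift (fst G T * (snd G T ≫ g)) (snd G T) ≫ lift (fst G T * (snd G T ≫ g)⁻¹) (snd G T) = 𝟙 _
    simp [comp_lift, comp_mul, comp_inv])
  inv_hom_id := AlgSt.QuotObj.hom_ext (Category.id_comp _) (by
    show lift (fst G T * (snd G T ≫ g)⁻¹) (snd G T) ≫ lift (fst G T * (snd G T ≫ g)) (snd G T) = 𝟙 _
    simp [comp_lift, comp_mul, comp_inv])

/-- The canonical 2-isomorphism of the square. -/
def squareIso :
    BasedFunctor.comp (AlgSt.ofSpMap ((AlgSp.yon S).map aX.act)) (AlgSt.quotMap Scheme.fppfPrecoverage G aX) ≅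
      BasedFunctor.comp (AlgSt.ofSpMap ((AlgSp.yon S).map (snd G X)))
        (AlgSt.quotMap Scheme.fppfPrecoverage G aX) :=
  BasedNatIso.mkNatIso
    (NatIso.ofComponents
      (fun a => transIso aX (a.sec.down ≫ aX.act) (a.sec.down ≫ snd G X) (a.sec.down ≫ fst G X)
        (by rw [← comp_lift, lift_fst_snd, Category.comp_id]))
      (fun {a b} f => AlgSt.QuotObj.hom_ext
        (by show f.hom ≫ 𝟙 _ = 𝟙 _ ≫ f.hom; simp) (by
        have hf : f.hom ≫ b.sec.down = a.sec.down := congrArg ULift.down f.map_sec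
        show (G ◁ f.hom) ≫ lift (fst G b.base * (snd G b.base ≫ b.sec.down ≫ fst G X)) (snd G b.base) =
          lift (fst G a.base * (snd G a.base ≫ a.sec.down ≫ fst G X)) (snd G a.base) ≫ (G ◁ f.hom)
        apply CartesianMonoidalCategory.hom_ext
        · simp [comp_mul, ← hf]
        · simp)))
    (fun a => IsHomLift.map (AlgSt.QuotSt Scheme.fppfPrecoverage G aX).p
      (transIso aX (a.sec.down ≫ aX.act) (a.sec.down ≫ snd G X) (a.sec.down ≫ fst G X)
        (by rw [← comp_lift, lift_fst_snd, Category.comp_id])).hom)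

theorem isTwoCartOver :
    FibCat.IsTwoCartOver (AlgSt.ofSpMap ((AlgSp.yon S).map aX.act))
      (AlgSt.ofSpMap ((AlgSp.yon S).map (snd G X))) (squareIso aX) := by
  let L := FibCat.fpLift (AlgSt.ofSpMap ((AlgSp.yon S).map aX.act))
      (AlgSt.ofSpMap ((AlgSp.yon S).map (snd G X))) (squareIso aX)
  have hfaith : L.toFunctor.Faithful := ⟨fun {a b f f'} h => Stk.EltObj.hom_ext
    (congrArg (fun k => Stk.EltObj.Hom.hom k.hom.fst) h)⟩
  have hfull : L.toFunctor.Full := ⟨fun {a b} k => by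
    let r : a.base ⟶ b.base := k.hom.fst.hom
    have hw := k.hom.w
    have hb : r ≫ 𝟙 b.base = 𝟙 a.base ≫ k.hom.snd.hom := congrArg AlgSt.QuotObj.Hom.base hw
    have hsnd : k.hom.snd.hom = r := by simpa using hb.symm
    have ht : (G ◁ r) ≫ lift (fst G b.base * (snd G b.base ≫ b.sec.down ≫ fst G X)) (snd G b.base) =
        lift (fst G a.base * (snd G a.base ≫ a.sec.down ≫ fst G X)) (snd G a.base) ≫ (G ◁ r) :=
      (congrArg AlgSt.QuotObj.Hom.top hw).trans (congrArg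
        (fun t : a.base ⟶ b.base =>
          lift (fst G a.base * (snd G a.base ≫ a.sec.down ≫ fst G X)) (snd G a.base) ≫ (G ◁ t)) hsnd)
    have h1 := lift (1 : a.base ⟶ G) (𝟙 a.base) ≫= ht =≫ fst G b.base
    simp [comp_mul] at h1
    have h2 : k.hom.snd.hom ≫ b.sec.down ≫ snd G X = a.sec.down ≫ snd G X :=
      congrArg ULift.down k.hom.snd.map_sec
    rw [hsnd] at h2
    have hsec : r ≫ b.sec.down = a.sec.down := by
      apply CartesianMonoidalCategory.hom_ext
      · simpa using h1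
      · simpa using h2
    refine ⟨⟨r, congrArg ULift.up hsec⟩, ?_⟩
    apply ObjectProperty.hom_ext
    exact CategoricalPullback.hom_ext (Stk.EltObj.hom_ext rfl) (Stk.EltObj.hom_ext hsnd.symm)⟩
  refine Groth.L09.Fib.isEquivOver_mk L fun z => ?_
  obtain ⟨⟨⟨T₁, ⟨x₁⟩⟩, ⟨T₂, ⟨x₂⟩⟩, i⟩, hi⟩ := z
  have hi' : (AlgSt.QuotSt Scheme.fppfPrecoverage G aX).p.IsHomLift (𝟙 T₁) i.hom := hi
  have hT : T₂ = T₁ := IsHomLift.codomain_eq (AlgSt.QuotSt Scheme.fppfPrecoverage G aX).p (𝟙 T₁) i.hom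
  subst hT
  have hbase : i.hom.base = 𝟙 T₂ := by
    have := IsHomLift.fac' (AlgSt.QuotSt Scheme.fppfPrecoverage G aX).p (𝟙 T₂) i.hom
    simp at this
    exact this
  have hw : i.hom.top ≫ snd G T₂ = snd G T₂ ≫ 𝟙 T₂ :=
    i.hom.cart.w.trans (congrArg (snd G T₂ ≫ ·) hbase)
  obtain ⟨g, hg, htop⟩ := exists_translation aX x₁ x₂ i.hom.top hw i.hom.eqv i.hom.wφ
  rw [Category.id_comp] at hg
  rw [Category.comp_id] at htop
  let ξ : (AlgSt.ofSch (G ⊗ X)).obj := ⟨T₂, ⟨lift g x₂⟩⟩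
  let e₁ : (AlgSt.ofSpMap ((AlgSp.yon S).map aX.act)).obj ξ ≅ ⟨T₂, ⟨x₁⟩⟩ :=
    eqToIso (congrArg (fun y => (⟨T₂, ⟨y⟩⟩ : (AlgSt.ofSch X).obj)) hg)
  let e₂ : (AlgSt.ofSpMap ((AlgSp.yon S).map (snd G X))).obj ξ ≅ ⟨T₂, ⟨x₂⟩⟩ :=
    eqToIso (congrArg (fun y => (⟨T₂, ⟨y⟩⟩ : (AlgSt.ofSch X).obj)) (lift_snd g x₂))
  have hb : ∀ {a b : (AlgSt.ofSch X).obj} (e : a = b),
      (eqToHom e : a ⟶ b).hom = eqToHom (congrArg Stk.EltObj.base e) := by
    rintro a b rfl; rfl
  have he₁ : e₁.hom.hom = 𝟙 T₂ :=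
    hb (congrArg (fun y => (⟨T₂, ⟨y⟩⟩ : (AlgSt.ofSch X).obj)) hg)
  have he₂ : e₂.hom.hom = 𝟙 T₂ :=
    hb (congrArg (fun y => (⟨T₂, ⟨y⟩⟩ : (AlgSt.ofSch X).obj)) (lift_snd g x₂))
  refine ⟨ξ, ObjectProperty.isoMk _ (CategoricalPullback.mkIso e₁ e₂ (AlgSt.QuotObj.hom_ext ?_ ?_)), ?_⟩
  · show e₁.hom.hom ≫ i.hom.base = 𝟙 T₂ ≫ e₂.hom.hom
    rw [hbase, he₁, he₂]
  · show (G ◁ e₁.hom.hom) ≫ i.hom.top =
      lift (fst G T₂ * (snd G T₂ ≫ lift g x₂ ≫ fst G X)) (snd G T₂) ≫ (G ◁ e₂.hom.hom)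
    rw [he₁, he₂, htop, lift_fst]
    change (G ◁ 𝟙 T₂) ≫ lift (fst G T₂ * (snd G T₂ ≫ g)) (snd G T₂) =
      lift (fst G T₂ * (snd G T₂ ≫ g)) (snd G T₂) ≫ (G ◁ 𝟙 T₂)
    simp
  · apply IsHomLift.of_fac' _ _ _ rfl rfl
    show e₁.hom.hom = _
    simp [he₁]
    rfl

end Groth.L24.QuotMor
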