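import Groth.Agent.L24.QuotMor.Desc
import Groth.Agent.L24.QuotMor.Cart
import Groth.Agent.L09.Gerbe.Coarse

/-!
# Geometric points of a quotient stack
-/

set_option autoImplicit false
set_option backward.isDefEq.respectTransparency false
set_option backward.isDefEq.respectTransparency.types false

universe u

open CategoryTheory CategoryTheory.Limits AlgebraicGeometry Opposite MonoidalCategory CartesianMonoidalCategory
open MonObj GrpObj Groth.L09.Stack

noncomputable section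

namespace Groth.L24.QuotMor

variable {S : Scheme.{u}} {G : Over S} [GrpObj G] {X : Over S} {aX : AlgGrp.Action G X}

/-- A morphism of `[X/G]` over an isomorphism is invertible. -/
theorem isIso_of_isIso_base {A B : AlgSt.QuotObj Scheme.fppfPrecoverage G aX} (h : A ⟶ B) [IsIso h.base] :
    IsIso h := by
  have := h.cart.isIso_fst_of_isIso
  refine ⟨{ base := inv h.base, top := inv h.top, eqv := ?_, cart := ?_, wφ := ?_ },
    AlgSt.QuotObj.hom_ext (IsIso.hom_inv_id _) (IsIso.hom_inv_id _),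
    AlgSt.QuotObj.hom_ext (IsIso.inv_hom_id _) (IsIso.inv_hom_id _)⟩
  · rw [← cancel_mono h.top, Category.assoc, IsIso.inv_hom_id, Category.comp_id, Category.assoc, h.eqv,
      ← MonoidalCategory.whiskerLeft_comp_assoc, IsIso.inv_hom_id, MonoidalCategory.whiskerLeft_id,
      Category.id_comp]
  · exact IsPullback.of_horiz_isIso ⟨by
      rw [← cancel_mono h.base, Category.assoc, Category.assoc, IsIso.inv_hom_id, Category.comp_id, ← h.cart.w,
        IsIso.inv_hom_id_assoc]⟩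
  · rw [← h.wφ, IsIso.inv_hom_id_assoc]

/-- An object of `[X/G]` whose torsor has a section comes from a point of `X`. -/
theorem exists_fromSection (A : AlgSt.QuotObj Scheme.fppfPrecoverage G aX) (s : A.base ⟶ A.P)
    (hs : s ≫ A.π = 𝟙 _) :
    ∃ h : (AlgSt.quotMap Scheme.fppfPrecoverage G aX).obj ⟨A.base, ⟨s ≫ A.φ⟩⟩ ⟶ A,
      h.base = 𝟙 A.base := by
  refine ⟨⟨𝟙 A.base, (G ◁ s) ≫ A.act.act, ?_, ?_, ?_⟩, rfl⟩
  · show (AlgSt.leftMul G A.base).act ≫ (G ◁ s) ≫ A.act.act = (G ◁ ((G ◁ s) ≫ A.act.act)) ≫ A.act.act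
    exact leftMul_equivariant A.act s
  · have h := (AlgSt.isPullback_whiskerLeft (G := G) s).paste_horiz A.cart
    rw [hs] at h
    exact h
  · show ((G ◁ s) ≫ A.act.act) ≫ A.φ = (G ◁ (s ≫ A.φ)) ≫ aX.act
    rw [Category.assoc, A.eqv, MonoidalCategory.whiskerLeft_comp, Category.assoc]

/-- Over an algebraically closed field every object of `[X/G]` comes from a point of `X`. -/
theorem exists_pt_of_algClosed {Ω : Type u} [Field Ω] [IsAlgClosed Ω] {t : Spec (CommRingCat.of Ω) ⟶ S}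
    (a : (AlgSt.QuotSt Scheme.fppfPrecoverage G aX).p.Fiber (Over.mk t)) :
    ∃ x : Over.mk t ⟶ X, Nonempty
      (@Iso ((AlgSt.QuotSt Scheme.fppfPrecoverage G aX).p.Fiber (Over.mk t)) _
        ⟨(AlgSt.quotMap Scheme.fppfPrecoverage G aX).obj ⟨Over.mk t, ⟨x⟩⟩, rfl⟩ a) := by
  obtain ⟨⟨T, P, act, π, cart, loc, φ, eqv⟩, ha⟩ := a
  obtain rfl : T = Over.mk t := ha
  obtain ⟨Z, s, f, hf, hs⟩ := L09.Gerbe.covering_id (cover_mem ⟨Over.mk t, P, act, π, cart, loc, φ, eqv⟩)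
  cases hf
  obtain ⟨h, hb⟩ := exists_fromSection ⟨Over.mk t, P, act, π, cart, loc, φ, eqv⟩ s hs
  have : IsIso h.base := by rw [hb]; exact IsIso.id _
  have := isIso_of_isIso_base h
  refine ⟨s ≫ φ, ⟨{ hom := ⟨h, ?_⟩, inv := ⟨inv h, ?_⟩, hom_inv_id := ?_, inv_hom_id := ?_ }⟩⟩
  · apply IsHomLift.of_fac' _ _ _ rfl rfl
    show h.base = _
    simp [hb]
  · apply IsHomLift.of_fac' _ _ _ rfl rfl
    show (inv h).base = _
    have h1 := congrArg AlgSt.QuotObj.Hom.base (IsIso.hom_inv_id h)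
    simp only [AlgSt.QuotObj.comp_base, AlgSt.QuotObj.id_base, hb] at h1
    simp
    exact (Category.id_comp _).symm.trans h1
  · exact Functor.Fiber.hom_ext (IsIso.hom_inv_id h)
  · exact Functor.Fiber.hom_ext (IsIso.inv_hom_id h)

theorem fibSec_of_iso {M : AlgSp.Sp S} (φ : AlgSt.QuotSt Scheme.fppfPrecoverage G aX ⥤ᵇ AlgSt.ofSp M)
    {T : Over S} {a b : (AlgSt.QuotSt Scheme.fppfPrecoverage G aX).p.Fiber T} (i : a ≅ b) :
    AlgSt.fibSec φ a = AlgSt.fibSec φ b :=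
  L09.Gerbe.fibSec_iso φ a b i.hom.1 i.hom.2

/-- Points over an algebraically closed field of `[X/G]` are orbits. -/
theorem geomPtBij_of_orbits {Y : Over S} (f : X ⟶ Y)
    (π : AlgSt.QuotSt Scheme.fppfPrecoverage G aX ⥤ᵇ AlgSt.ofSch Y)
    (hπf : homOf π = (AlgSp.yon S).map f)
    (horb : ∀ (Ω : Type u) [Field Ω] [IsAlgClosed Ω] (t : Spec (CommRingCat.of Ω) ⟶ S),
      (∀ y : Over.mk t ⟶ Y, ∃ x : Over.mk t ⟶ X, x ≫ f = y) ∧
      (∀ x x' : Over.mk t ⟶ X, x ≫ f = x' ≫ f → ∃ g : Over.mk t ⟶ G, lift g x' ≫ aX.act = x)) :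
    AlgSt.GeomPtBij π := by
  intro Ω _ _ t
  obtain ⟨h1, h2⟩ := horb Ω t
  have key : ∀ x : Over.mk t ⟶ X, secAt π x = ⟨x ≫ f⟩ := fun x => by
    rw [← pt_homOf, hπf]
    rfl
  refine ⟨fun ⟨y⟩ => ?_, fun a b hab => ?_⟩
  · obtain ⟨x, rfl⟩ := h1 y
    exact ⟨⟨(AlgSt.quotMap Scheme.fppfPrecoverage G aX).obj ⟨Over.mk t, ⟨x⟩⟩, rfl⟩, key x⟩
  · obtain ⟨x, ⟨i⟩⟩ := exists_pt_of_algClosed a
    obtain ⟨x', ⟨i'⟩⟩ := exists_pt_of_algClosed b
    rw [← fibSec_of_iso π i, ← fibSec_of_iso π i'] at hab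
    have e : x ≫ f = x' ≫ f := congrArg ULift.down ((key x).symm.trans (hab.trans (key x')))
    obtain ⟨g, hg⟩ := h2 x x' e
    refine ⟨i.symm ≪≫ ?_ ≪≫ i'⟩
    let j := transIso aX x x' g hg
    exact { hom := ⟨j.hom, IsHomLift.of_fac' _ _ _ rfl rfl (by simp [j, transIso]; rfl)⟩
            inv := ⟨j.inv, IsHomLift.of_fac' _ _ _ rfl rfl (by simp [j, transIso]; rfl)⟩
            hom_inv_id := Functor.Fiber.hom_ext j.hom_inv_id
            inv_hom_id := Functor.Fiber.hom_ext j.inv_hom_id }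

end Groth.L24.QuotMor
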